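import Groth.Agent.L28.Strata.EtMod
import Groth.Prelude.Def_EtShriek2
import Mathlib.CategoryTheory.Adjunction.Restrict
import Mathlib.CategoryTheory.Adjunction.Whiskering
import Mathlib.CategoryTheory.MorphismProperty.OverAdjunction

/-!
Inverse images along open immersions are restrictions; local constancy is Zariski local.
-/

set_option autoImplicit false

universe u

open CategoryTheory CategoryTheory.Limits AlgebraicGeometry Opposite GrothendieckTopology

set_option backward.isDefEq.respectTransparency.types false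

namespace Groth.L28.Lisse

variable {Λ : Type (u + 1)} [CommRing Λ] {X W : Scheme.{u}} (j : W ⟶ X) [AlgebraicGeometry.Etale j]

theorem isCocontinuous_compEtale [Mono j] :
    (EtShriek.compEtale j).IsCocontinuous W.smallEtaleTopology X.smallEtaleTopology := by
  refine ⟨fun {V S} hS => (Groth.L27.EtSite.mem_topology_iff _).2 fun x => ?_⟩
  obtain ⟨Z, g, z, hg, hz⟩ := (Groth.L27.EtSite.mem_topology_iff _).1 hS x
  obtain ⟨V', e⟩ := EtShriek.compEtaleLift j g
  refine ⟨V', (EtShriek.compEtale j).preimage (e.hom ≫ g), e.inv.left.base z, ?_, ?_⟩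
  · show S ((EtShriek.compEtale j).map ((EtShriek.compEtale j).preimage (e.hom ≫ g)))
    rw [Functor.map_preimage]
    exact S.downward_closed hg _
  · refine Eq.trans ?_ hz
    refine Eq.trans ?_ (congrArg (fun k : Z ⟶ (EtShriek.compEtale j).obj V => k.left.base z) (e.inv_hom_id_assoc g))
    show ((EtShriek.compEtale j).map ((EtShriek.compEtale j).preimage (e.hom ≫ g))).left.base (e.inv.left.base z) = _
    rw [Functor.map_preimage]
    rfl

/-- restriction along an étale morphism is left adjoint to the direct image -/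
noncomputable def restrPushAdj [EtShriek.JCont j] :
    (EtShriek.compEtale j).sheafPushforwardContinuous (ModuleCat.{u + 1} Λ) W.smallEtaleTopology
        X.smallEtaleTopology ⊣ EtModW.push Λ j :=
  ((MorphismProperty.Over.mapPullbackAdj (P := EtCoh.etaleMP.{u}) (Q := ⊤) j (show EtCoh.etaleMP j from inferInstanceAs (AlgebraicGeometry.Etale j)) trivial).op.whiskerLeft
    (ModuleCat.{u + 1} Λ)).restrictFullyFaithful (fullyFaithfulSheafToPresheaf _ _) (fullyFaithfulSheafToPresheaf _ _)
    (Iso.refl _) (Iso.refl _)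

/-- inverse image along an étale morphism is restriction -/
noncomputable def pullIsoRestr [EtShriek.JCont j] :
    EtModW.pull Λ j ≅ (EtShriek.compEtale j).sheafPushforwardContinuous (ModuleCat.{u + 1} Λ) W.smallEtaleTopology
        X.smallEtaleTopology :=
  Adjunction.leftAdjointUniq (Strata.pullPushAdjMod j) (restrPushAdj j)

theorem trivial_of_pull [Mono j] {F : EtModW.Mod Λ X} {V : W.Etale} {M : ModuleCat.{u + 1} Λ}
    (α : EtModW.restr Λ ((EtModW.pull Λ j).obj F) V ≅
      (constantSheaf (W.smallEtaleTopology.over V) (ModuleCat.{u + 1} Λ)).obj M) :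
    Nonempty (EtModW.restr Λ F ((EtShriek.compEtale j).obj V) ≅
      (constantSheaf (X.smallEtaleTopology.over ((EtShriek.compEtale j).obj V)) (ModuleCat.{u + 1} Λ)).obj M) := by
  haveI := isCocontinuous_compEtale j
  let G : Over V ⥤ Over ((EtShriek.compEtale j).obj V) := Over.post (EtShriek.compEtale j)
  haveI : G.EssSurj := ⟨fun Z => by
    obtain ⟨V', e⟩ := EtShriek.compEtaleLift j Z.hom
    refine ⟨Over.mk ((EtShriek.compEtale j).preimage (e.hom ≫ Z.hom)), ⟨Over.isoMk e ?_⟩⟩
    exact ((EtShriek.compEtale j).map_preimage _).symm⟩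
  haveI : G.IsEquivalence := {}
  haveI : G.IsContinuous (W.smallEtaleTopology.over V)
      (X.smallEtaleTopology.over ((EtShriek.compEtale j).obj V)) :=
    Functor.isContinuous_of_coverPreserving (compatiblePreservingOfFlat _ _)
      ((EtShriek.coverPreserving_compEtale j).overPost V)
  let β : (G.sheafPushforwardContinuous (ModuleCat.{u + 1} Λ) (W.smallEtaleTopology.over V)
      (X.smallEtaleTopology.over ((EtShriek.compEtale j).obj V))).obj
        (EtModW.restr Λ F ((EtShriek.compEtale j).obj V)) ≅
      (G.sheafPushforwardContinuous (ModuleCat.{u + 1} Λ) (W.smallEtaleTopology.over V)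
      (X.smallEtaleTopology.over ((EtShriek.compEtale j).obj V))).obj
        ((constantSheaf (X.smallEtaleTopology.over ((EtShriek.compEtale j).obj V)) (ModuleCat.{u + 1} Λ)).obj M) :=
    ((W.smallEtaleTopology.overPullback (ModuleCat.{u + 1} Λ) V).mapIso ((pullIsoRestr j).symm.app F)) ≪≫ α ≪≫
      (LocConst.constCompat (J := W.smallEtaleTopology.over V)
        (K := X.smallEtaleTopology.over ((EtShriek.compEtale j).obj V)) G M).symm
  exact ⟨(fullyFaithfulSheafToPresheaf _ _).preimageIso
    (((Functor.whiskeringLeft _ _ (ModuleCat.{u + 1} Λ)).obj G.op).preimageIso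
      ((sheafToPresheaf _ _).mapIso β))⟩

theorem isFTLocConst_of_openCover {F : EtModW.Mod Λ X} {ι : Type u} (T : ι → Scheme.{u}) (g : ∀ i, T i ⟶ X)
    [∀ i, IsOpenImmersion (g i)] (hcov : ∀ x, ∃ i, x ∈ Set.range (g i))
    (h : ∀ i, EtModW.IsFTLocConst Λ ((EtModW.pull Λ (g i)).obj F)) : EtModW.IsFTLocConst Λ F := by
  choose κ V hV hM using h
  refine ⟨Σ i, κ i, fun p => (EtShriek.compEtale (g p.1)).obj (V p.1 p.2), fun x => ?_, fun p => ?_⟩
  · obtain ⟨i, t, rfl⟩ := hcov x
    obtain ⟨k, y, rfl⟩ := hV i t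
    exact ⟨⟨i, k⟩, y, rfl⟩
  · obtain ⟨M, _, _, hfin, ⟨α⟩⟩ := hM p.1 p.2
    exact ⟨M, inferInstance, inferInstance, hfin, trivial_of_pull (g p.1) α⟩

end Groth.L28.Lisse
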