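import Groth.Agent.L28.LocConst.Sect
import Groth.Agent.L28.Strata.EtMod
import Mathlib.AlgebraicGeometry.Morphisms.UniversallyOpen
import Mathlib.AlgebraicGeometry.Morphisms.Etale
import Mathlib.Topology.Sober

/-!
Subsheaves of locally constant sheaves on irreducible schemes are determined at the generic point.
-/

set_option autoImplicit false

universe u

open CategoryTheory CategoryTheory.Limits AlgebraicGeometry Opposite GrothendieckTopology

set_option backward.isDefEq.respectTransparency.types false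

namespace Groth.L28.Lisse

open Groth.L28.LocConst

variable {Λ : Type (u + 1)} [CommRing Λ] {X : Scheme.{u}} {Ω : Type u} [Field Ω] [IsSepClosed Ω]
  (ξ : Spec (CommRingCat.of Ω) ⟶ X)

/-- germs of the sections of a trivialisation give the stalk -/
theorem isIso_sec_germ {L : EtModW.Mod Λ X} {W : X.Etale} {M : ModuleCat.{u + 1} Λ}
    (α : EtModW.restr Λ L W ≅ (constOver W).obj M) (y : (Scheme.pointSmallEtale ξ).fiber.obj W) :
    IsIso (sec α ≫ (Scheme.pointSmallEtale ξ).toPresheafFiber W y L.obj) := by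
  let Φ := (Scheme.pointSmallEtale ξ).over y
  let e : Φ.fiber.obj (top W) := ⟨y, rfl⟩
  have h := Pts.constSect_sheafFiberConstIso_hom Φ (EtModStalk.restr_inverted (Λ := Λ) ξ y) M (top W) e
  have h1 : cs (X.smallEtaleTopology.over W) M (top W) ≫ Φ.toPresheafFiber (top W) e ((constOver W).obj M).obj =
      (Pts.sheafFiberConstIso Φ (EtModStalk.restr_inverted (Λ := Λ) ξ y) M).inv :=
    (Iso.comp_hom_eq_id _).1 ((Category.assoc _ _ _).trans h)
  have e1 : sec α ≫ (Scheme.pointSmallEtale ξ).toPresheafFiber W y L.obj =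
      (cs (X.smallEtaleTopology.over W) M (top W) ≫ Φ.toPresheafFiber (top W) e ((constOver W).obj M).obj) ≫
        Φ.sheafFiber.map α.inv ≫ ((Pts.sheafFiberOverIso (Scheme.pointSmallEtale ξ) y).app L).hom := by
    refine Eq.trans ?_ (Category.assoc _ _ _).symm
    refine (Category.assoc _ _ _).trans (congrArg (fun k => cs (X.smallEtaleTopology.over W) M (top W) ≫ k) ?_)
    refine Eq.trans ?_ (GrothendieckTopology.Point.toPresheafFiber_naturality_assoc Φ α.inv.hom (top W) e _).symm
    exact congrArg (fun k => α.inv.hom.app _ ≫ k)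
      (Pts.toPresheafFiber_presheafFiberOverObjIso_hom (Scheme.pointSmallEtale ξ) y L.obj (top W) e).symm
  rw [e1, h1]
  exact IsIso.comp_isIso' (Iso.isIso_inv _) (IsIso.comp_isIso' (Functor.map_isIso _ _) (Iso.isIso_hom _))

/-- trivialised maps on sections -/
theorem sec_linear {L Q : EtModW.Mod Λ X} (φ : L ⟶ Q) {W : X.Etale} {M N : ModuleCat.{u + 1} Λ} (h : M ⟶ N)
    (α : EtModW.restr Λ L W ≅ (constOver W).obj M) (β : EtModW.restr Λ Q W ≅ (constOver W).obj N)
    (e : (X.smallEtaleTopology.overPullback (ModuleCat.{u + 1} Λ) W).map φ ≫ β.hom = α.hom ≫ (constOver W).map h) :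
    sec α ≫ φ.hom.app (op W) = h ≫ sec β := by
  have e' : α.inv ≫ (X.smallEtaleTopology.overPullback (ModuleCat.{u + 1} Λ) W).map φ =
      (constOver W).map h ≫ β.inv := by
    rw [Iso.inv_comp_eq, ← Category.assoc, Iso.eq_comp_inv]
    exact e
  refine (Category.assoc _ _ _).trans ?_
  refine (congrArg (fun k : (constOver W).obj M ⟶ EtModW.restr Λ Q W =>
    cs (X.smallEtaleTopology.over W) M (top W) ≫ k.hom.app (op (top W))) e').trans ?_
  exact (Category.assoc _ _ _).symm.trans ((congrArg (fun k => k ≫ β.inv.hom.app (op (top W)))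
    (cs_app h (top W))).trans (Category.assoc _ _ _))

theorem isIso_of_generic [IrreducibleSpace X] (hξ : ξ.base default = genericPoint X) {L K Q : EtModW.Mod Λ X}
    (a : L ⟶ K) (b : K ⟶ Q) [Mono a] [Mono b] (hL : EtModW.IsFTLocConst Λ L) (hQ : EtModW.IsFTLocConst Λ Q)
    (hst : IsIso ((EtModW.stalk Λ ξ).map a)) : IsIso a := by
  haveI : AB5OfSize.{u, u} (ModuleCat.{u + 1} Λ) := AB5OfSize_shrink.{u, u, u + 1, u + 1} _
  obtain ⟨ι, U, hU, hloc⟩ := exists_locally_linear (a ≫ b) hL hQ
  have hsurj : ∀ (Ω' : Type u) [Field Ω'] [IsSepClosed Ω'] (ξ' : Spec (CommRingCat.of Ω') ⟶ X),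
      Function.Surjective ((EtModW.stalk Λ ξ').map a) := by
    intro Ω' _ _ ξ' g
    obtain ⟨V, y, t, ht⟩ := (Scheme.pointSmallEtale ξ').toPresheafFiber_jointly_surjective g
    obtain ⟨i, z, hz⟩ := hU (ξ'.base default)
    obtain ⟨y', -⟩ := Groth.L27.EtSite.exists_fiber ξ' (U i) z hz
    obtain ⟨⟨W, w⟩, ⟨p, hp⟩, ⟨q, -⟩, -⟩ := IsCofilteredOrEmpty.cone_objs
      ((Scheme.pointSmallEtale ξ').fiber.elementsMk V y) ((Scheme.pointSmallEtale ξ').fiber.elementsMk (U i) y')
    obtain ⟨M, N, _, _, h, α, β, hab⟩ := hloc i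
    have hb' : (EtModW.stalk Λ ξ').map b g =
        (Scheme.pointSmallEtale ξ').toPresheafFiber W w Q.obj (b.hom.app (op W) (rs K p t)) := by
      rw [← ht, ← show (Scheme.pointSmallEtale ξ').fiber.map p w = y from hp,
        ← GrothendieckTopology.Point.toPresheafFiber_w_apply]
      exact GrothendieckTopology.Point.toPresheafFiber_naturality_apply _ b.hom W w _
    obtain ⟨m, hm⟩ := ((ConcreteCategory.isIso_iff_bijective _).1 (isIso_sec_germ ξ' (restrIso q β) w)).2
      ((EtModW.stalk Λ ξ').map b g)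
    obtain ⟨W2, f, w2, hw2, hf⟩ := ((Scheme.pointSmallEtale ξ').toPresheafFiber_eq_iff' _ _ _ _).1
      ((show (Scheme.pointSmallEtale ξ').toPresheafFiber W w Q.obj (sec (restrIso q β) m) = _ from hm).trans hb')
    obtain ⟨x, hx⟩ : genericPoint X ∈ Set.range W2.hom := by
      haveI : AlgebraicGeometry.Etale W2.hom := W2.prop
      refine ((genericPoint_spec X).mem_open_set_iff W2.hom.isOpenMap.isOpen_range).2 ?_
      exact ⟨_, trivial, ⟨_, Groth.L27.EtSite.fiber_apply w2⟩⟩
    obtain ⟨w0, -⟩ := Groth.L27.EtSite.exists_fiber ξ W2 x (hx.trans hξ.symm)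
    have hlin : sec (restrIso (f ≫ q) α) ≫ (a ≫ b).hom.app (op W2) = h ≫ sec (restrIso (f ≫ q) β) := by
      rw [sec_restrIso, sec_restrIso, Category.assoc, ← Category.assoc h, ← sec_linear (a ≫ b) h α β hab,
        Category.assoc]
      exact congrArg (fun k => sec α ≫ k) ((a ≫ b).hom.naturality (f ≫ q).op)
    have hsecβ : ∀ m, sec (restrIso (f ≫ q) β) m = rs Q f (sec (restrIso q β) m) := fun m => by
      rw [sec_restrIso, sec_restrIso]
      show Q.obj.map (f ≫ q).op _ = Q.obj.map f.op (Q.obj.map q.op _)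
      rw [op_comp, Q.obj.map_comp]
      rfl
    have hbt : b.hom.app (op W2) (rs K (f ≫ p) t) = sec (restrIso (f ≫ q) β) m := by
      rw [hsecβ]
      refine Eq.trans ?_ hf.symm
      show b.hom.app (op W2) (K.obj.map (f ≫ p).op t) = Q.obj.map f.op (b.hom.app (op W) (K.obj.map p.op t))
      rw [op_comp, K.obj.map_comp]
      exact NatTrans.naturality_apply b.hom f.op _
    obtain ⟨s, hs⟩ := ((ConcreteCategory.isIso_iff_bijective _).1 hst).2
      ((Scheme.pointSmallEtale ξ).toPresheafFiber W2 w0 K.obj (rs K (f ≫ p) t))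
    obtain ⟨m', hm'⟩ := ((ConcreteCategory.isIso_iff_bijective _).1 (isIso_sec_germ ξ (restrIso (f ≫ q) α) w0)).2 s
    have key : ∀ (Ω₁ : Type u) [Field Ω₁] [IsSepClosed Ω₁] (η : Spec (CommRingCat.of Ω₁) ⟶ X)
        (e : (Scheme.pointSmallEtale η).fiber.obj W2),
        (EtModW.stalk Λ η).map b ((EtModW.stalk Λ η).map a
          ((Scheme.pointSmallEtale η).toPresheafFiber W2 e L.obj (sec (restrIso (f ≫ q) α) m'))) =
          (Scheme.pointSmallEtale η).toPresheafFiber W2 e Q.obj (sec (restrIso (f ≫ q) β) (h m')) := by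
      intro Ω₁ _ _ η e
      rw [← ConcreteCategory.comp_apply, ← Functor.map_comp]
      refine (GrothendieckTopology.Point.toPresheafFiber_naturality_apply _ (a ≫ b).hom W2 e _).trans (congrArg _ ?_)
      exact ConcreteCategory.congr_hom hlin m'
    have hhm : h m' = m := by
      refine ((ConcreteCategory.isIso_iff_bijective _).1 (isIso_sec_germ ξ (restrIso (f ≫ q) β) w0)).1 ?_
      show (Scheme.pointSmallEtale ξ).toPresheafFiber W2 w0 Q.obj (sec (restrIso (f ≫ q) β) (h m')) =
        (Scheme.pointSmallEtale ξ).toPresheafFiber W2 w0 Q.obj (sec (restrIso (f ≫ q) β) m)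
      rw [← key, show (Scheme.pointSmallEtale ξ).toPresheafFiber W2 w0 L.obj (sec (restrIso (f ≫ q) α) m') = s from hm',
        hs, ← hbt]
      exact GrothendieckTopology.Point.toPresheafFiber_naturality_apply _ b.hom W2 w0 _
    refine ⟨(Scheme.pointSmallEtale ξ').toPresheafFiber W2 w2 L.obj (sec (restrIso (f ≫ q) α) m'), ?_⟩
    apply (ModuleCat.mono_iff_injective _).1 ((EtModW.stalk Λ ξ').map_mono b)
    rw [key, hhm, hsecβ]
    refine Eq.trans ?_ hm
    show _ = (Scheme.pointSmallEtale ξ').toPresheafFiber W w Q.obj (sec (restrIso q β) m)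
    rw [← hw2, ← GrothendieckTopology.Point.toPresheafFiber_w_apply]
  exact (Sheaf.isLocallyBijective_iff_isIso a).1
    ⟨Groth.L27.EtSite.isLocallyInjective_of_stalks a.hom
      fun Ω' _ _ ξ' => (ModuleCat.mono_iff_injective _).1 ((EtModW.stalk Λ ξ').map_mono a),
    Groth.L27.EtSite.isLocallySurjective_of_stalks a.hom hsurj⟩

end Groth.L28.Lisse
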