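import Groth.Agent.L28.LocConst.PullInst
import Groth.Agent.L28.Strata.EtMod
import Groth.Agent.L27.TopInv.Thickening

/-!
Local constancy descends along surjective closed immersions.
-/

set_option autoImplicit false

universe u

open CategoryTheory CategoryTheory.Limits AlgebraicGeometry Opposite GrothendieckTopology

set_option backward.isDefEq.respectTransparency.types false

namespace Groth.L28.Lisse

variable {Λ : Type (u + 1)} [CommRing Λ] {X Y : Scheme.{u}} (i : X ⟶ Y) [IsClosedImmersion i] [Surjective i]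

theorem bc_equiv : (EtCoh.bc i).IsEquivalence := Groth.L27.TopInv.isEquivalence_bc_of_thickening i

theorem isCocontinuous_bc : (EtCoh.bc i).IsCocontinuous Y.smallEtaleTopology X.smallEtaleTopology := by
  haveI := bc_equiv i
  refine ⟨fun {U S} hS => (Groth.L27.EtSite.mem_topology_iff _).2 fun x => ?_⟩
  obtain ⟨u, rfl⟩ := (pullback.fst U.hom i).surjective x
  obtain ⟨V, g, v, hg, rfl⟩ := (Groth.L27.EtSite.mem_topology_iff _).1 hS u
  let e := (EtCoh.bc i).objObjPreimageIso V
  refine ⟨(EtCoh.bc i).objPreimage V, (EtCoh.bc i).preimage (e.hom ≫ g),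
    (pullback.fst ((EtCoh.bc i).objPreimage V).hom i).base (e.inv.left.base v), ?_, ?_⟩
  · show S ((EtCoh.bc i).map ((EtCoh.bc i).preimage (e.hom ≫ g)))
    rw [Functor.map_preimage]
    exact S.downward_closed hg _
  · have h := congrArg (fun m => m.base (e.inv.left.base v))
      (EtCoh.isPullback_bc_map i ((EtCoh.bc i).preimage (e.hom ≫ g))).w
    refine (Scheme.Hom.comp_apply _ _ _).symm.trans (h.symm.trans ?_)
    rw [Functor.map_preimage]
    refine (Scheme.Hom.comp_apply _ _ _).trans (congrArg (fun z => (pullback.fst U.hom i).base z) ?_)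
    refine ((Scheme.Hom.comp_apply _ _ _).symm.trans ?_)
    exact congrArg (fun m : V.left ⟶ ((EtCoh.bc i).obj U).left => m.base v)
      (congrArg (fun k : V ⟶ (EtCoh.bc i).obj U => k.left) (e.inv_hom_id_assoc g))

theorem isIso_unit (F : EtModW.Mod Λ Y) : IsIso ((Strata.pullPushAdjMod i).unit.app F) := by
  haveI := bc_equiv i
  have key : ∀ (y : Y), ∃ (Ω : Type u) (_ : Field Ω) (_ : IsSepClosed Ω) (ξ : Spec (CommRingCat.of Ω) ⟶ Y),
      ξ.base default = y ∧
      Function.Bijective ((Scheme.pointSmallEtale ξ).presheafFiber.map ((Strata.pullPushAdjMod i).unit.app F).hom) := by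
    intro y
    obtain ⟨x, rfl⟩ := i.surjective y
    obtain ⟨Ω, _, _, ξ, hξ⟩ := Groth.L27.EtSite.exists_geometric_point x
    refine ⟨Ω, inferInstance, inferInstance, ξ ≫ i, by rw [← hξ]; rfl, ?_⟩
    let Φ := Scheme.pointSmallEtale ξ
    let Ψ := Φ.comap (EtCoh.bc i) (EtCoh.coverPreserving_bc i)
    let PF := (EtModW.pull Λ i).obj F
    let β : Ψ.presheafFiber.obj ((EtCoh.bc i).op ⋙ PF.obj) ⟶ Φ.presheafFiber.obj PF.obj :=
      Ψ.presheafFiberDesc (fun U z => Φ.toPresheafFiber ((EtCoh.bc i).obj U) z PF.obj)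
        (fun U V f z => Φ.toPresheafFiber_w ((EtCoh.bc i).map f) z PF.obj)
    have hβ : ∀ (U : Y.Etale) (z : Ψ.fiber.obj U) (t : ((EtCoh.bc i).op ⋙ PF.obj).obj (op U)),
        β (Ψ.toPresheafFiber U z ((EtCoh.bc i).op ⋙ PF.obj) t) = Φ.toPresheafFiber ((EtCoh.bc i).obj U) z PF.obj t :=
      fun U z t => ConcreteCategory.congr_hom (GrothendieckTopology.Point.toPresheafFiber_presheafFiberDesc _ _ _ _ _) t
    have hβi : Function.Injective β := by
      intro a b hab
      obtain ⟨U, z, s, rfl⟩ := Ψ.toPresheafFiber_jointly_surjective a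
      obtain ⟨U', z', s', rfl⟩ := Ψ.toPresheafFiber_jointly_surjective b
      obtain ⟨⟨W, w⟩, ⟨p, hp⟩, ⟨q, hq⟩, -⟩ := IsCofilteredOrEmpty.cone_objs
        (Ψ.fiber.elementsMk U z) (Ψ.fiber.elementsMk U' z')
      rw [← show Ψ.fiber.map p w = z from hp, ← show Ψ.fiber.map q w = z' from hq,
        ← GrothendieckTopology.Point.toPresheafFiber_w_apply,
        ← GrothendieckTopology.Point.toPresheafFiber_w_apply] at hab ⊢
      rw [hβ, hβ] at hab
      obtain ⟨V, c, v, hv, hc⟩ := (Φ.toPresheafFiber_eq_iff' _ _ _ _).1 hab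
      let e := (EtCoh.bc i).objObjPreimageIso V
      refine (Ψ.toPresheafFiber_eq_iff' _ _ _ _).2 ⟨(EtCoh.bc i).objPreimage V,
        (EtCoh.bc i).preimage (e.hom ≫ c), Φ.fiber.map e.inv v, ?_, ?_⟩
      · show Φ.fiber.map ((EtCoh.bc i).map ((EtCoh.bc i).preimage (e.hom ≫ c))) (Φ.fiber.map e.inv v) = w
        rw [Functor.map_preimage, ← hv]
        exact (ConcreteCategory.congr_hom (Φ.fiber.map_comp e.inv (e.hom ≫ c)) v).symm.trans
          (congrArg (fun k => Φ.fiber.map k v) (e.inv_hom_id_assoc c))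
      · show PF.obj.map ((EtCoh.bc i).map ((EtCoh.bc i).preimage (e.hom ≫ c))).op _ =
          PF.obj.map ((EtCoh.bc i).map ((EtCoh.bc i).preimage (e.hom ≫ c))).op _
        rw [Functor.map_preimage, op_comp, PF.obj.map_comp]
        exact congrArg (fun t => PF.obj.map e.hom.op t) hc
    have hcomp : Function.Bijective (fun t => β (Ψ.presheafFiber.map ((Strata.pullPushAdjMod i).unit.app F).hom t)) := by
      have e : ∀ t, β (Ψ.presheafFiber.map ((Strata.pullPushAdjMod i).unit.app F).hom t) =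
          (Φ.sheafFiberComapIso (EtCoh.bc i) (EtCoh.coverPreserving_bc i) (ModuleCat.{u + 1} Λ)).hom.app F t := by
        intro t
        obtain ⟨U, z, s, rfl⟩ := Ψ.toPresheafFiber_jointly_surjective t
        refine Eq.trans ?_ (ConcreteCategory.congr_hom (Pts.toPresheafFiber_sheafFiberComapIso_hom Φ (EtCoh.bc i)
          (EtCoh.coverPreserving_bc i) F U z) s).symm
        exact (congrArg β (GrothendieckTopology.Point.toPresheafFiber_naturality_apply Ψ
          ((Strata.pullPushAdjMod i).unit.app F).hom U z s)).trans (hβ U z _)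
      simp only [e]
      exact (ConcreteCategory.isIso_iff_bijective _).1
        (Iso.isIso_hom ((Φ.sheafFiberComapIso (EtCoh.bc i) (EtCoh.coverPreserving_bc i) (ModuleCat.{u + 1} Λ)).app F))
    have hΨ : Function.Bijective (Ψ.presheafFiber.map ((Strata.pullPushAdjMod i).unit.app F).hom) :=
      ⟨fun a b h => hcomp.1 (congrArg β h), fun b => let ⟨a, ha⟩ := hcomp.2 (β b); ⟨a, hβi ha⟩⟩
    have h2 : IsIso ((Scheme.pointSmallEtale (ξ ≫ i)).sheafFiber.map ((Strata.pullPushAdjMod i).unit.app F)) :=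
      ((MorphismProperty.isomorphisms _).arrow_mk_iso_iff
        (((Functor.mapArrowFunctor _ _).mapIso (Groth.L27.EtSite.sheafFiberCongr (ModuleCat.{u + 1} Λ)
          (Groth.L27.EtSite.comapPointIso i ξ))).app (Arrow.mk ((Strata.pullPushAdjMod i).unit.app F)))).1
        ((ConcreteCategory.isIso_iff_bijective _).2 hΨ)
    exact (ConcreteCategory.isIso_iff_bijective _).1 h2
  refine (Sheaf.isLocallyBijective_iff_isIso _).1
    ⟨Groth.L27.EtSite.isLocallyInjective_of_some_stalks _ fun y => ?_,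
      Groth.L27.EtSite.isLocallySurjective_of_some_stalks _ fun y => ?_⟩
  · obtain ⟨Ω, h1, h2, ξ, hξ, h⟩ := key y; exact ⟨Ω, h1, h2, ξ, hξ, h.1⟩
  · obtain ⟨Ω, h1, h2, ξ, hξ, h⟩ := key y; exact ⟨Ω, h1, h2, ξ, hξ, h.2⟩

theorem isFTLocConst_push {H : EtModW.Mod Λ X} (hH : EtModW.IsFTLocConst Λ H) :
    EtModW.IsFTLocConst Λ ((EtModW.push Λ i).obj H) := by
  haveI := bc_equiv i
  haveI := isCocontinuous_bc i
  obtain ⟨ι, U, hU, h⟩ := hH
  refine ⟨ι, fun k => (EtCoh.bc i).objPreimage (U k), fun y => ?_, fun k => ?_⟩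
  · obtain ⟨x, rfl⟩ := i.surjective y
    obtain ⟨k, z, rfl⟩ := hU x
    let e := (EtCoh.bc i).objObjPreimageIso (U k)
    refine ⟨k, (pullback.fst ((EtCoh.bc i).objPreimage (U k)).hom i).base (e.inv.left.base z), ?_⟩
    refine (Scheme.Hom.comp_apply _ _ _).symm.trans ?_
    refine (congrArg (fun m : ((EtCoh.bc i).obj ((EtCoh.bc i).objPreimage (U k))).left ⟶ Y => m.base (e.inv.left.base z))
      (pullback.condition (f := ((EtCoh.bc i).objPreimage (U k)).hom) (g := i))).trans ?_
    refine (Scheme.Hom.comp_apply _ _ _).trans (congrArg (fun t => i.base t) ?_)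
    exact (Scheme.Hom.comp_apply _ _ _).symm.trans
      (congrArg (fun m : (U k).left ⟶ X => m.base z) (Over.w e.inv.hom))
  · obtain ⟨M, _, _, hM, ⟨α⟩⟩ := h k
    let V := (EtCoh.bc i).objPreimage (U k)
    haveI : (Over.post (X := V) (EtCoh.bc i)).IsContinuous (Y.smallEtaleTopology.over V)
        (X.smallEtaleTopology.over ((EtCoh.bc i).obj V)) :=
      Functor.isContinuous_of_coverPreserving (compatiblePreservingOfFlat _ _)
        ((EtCoh.coverPreserving_bc i).overPost V)
    let α' : EtModW.restr Λ H ((EtCoh.bc i).obj V) ≅ _ := LocConst.restrIso ((EtCoh.bc i).objObjPreimageIso (U k)).hom α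
    exact ⟨M, inferInstance, inferInstance, hM,
      ⟨((Over.post (X := V) (EtCoh.bc i)).sheafPushforwardContinuous (ModuleCat.{u + 1} Λ)
          (Y.smallEtaleTopology.over V) (X.smallEtaleTopology.over ((EtCoh.bc i).obj V))).mapIso α' ≪≫
        LocConst.constCompat (J := Y.smallEtaleTopology.over V) (K := X.smallEtaleTopology.over ((EtCoh.bc i).obj V))
          (Over.post (X := V) (EtCoh.bc i)) (ModuleCat.of Λ M)⟩⟩

theorem isFTLocConst_of_pull {F : EtModW.Mod Λ Y} (h : EtModW.IsFTLocConst Λ ((EtModW.pull Λ i).obj F)) :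
    EtModW.IsFTLocConst Λ F := by
  haveI := isIso_unit (Λ := Λ) i F
  exact Strata.isFT_of_iso (asIso ((Strata.pullPushAdjMod i).unit.app F)).symm (isFTLocConst_push i h)

end Groth.L28.Lisse
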