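import Groth.Agent.L28.Lisse.Abstract
import Groth.Agent.L28.Lisse.Rigid
import Groth.Agent.L28.Lisse.Thick
import Groth.Agent.L28.Lisse.Open
import Groth.Agent.L28.AR.MapFunctor
import Groth.Agent.L28.Pts.Linear
import Mathlib.AlgebraicGeometry.FunctionField
import Mathlib.AlgebraicGeometry.Noetherian
import Mathlib.Algebra.Category.ModuleCat.Biproducts
import Mathlib.Algebra.Category.ModuleCat.Subobject

/-!
Adic systems of constructible sheaves are lisse on a common nonempty open.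
-/

set_option autoImplicit false

universe u

open CategoryTheory CategoryTheory.Limits AlgebraicGeometry Opposite

set_option backward.isDefEq.respectTransparency.types false

namespace Groth.L28.Lisse

attribute [local instance] Abelian.hasFiniteBiproducts

variable {Λ : Type (u + 1)} [CommRing Λ] {X Y : Scheme.{u}}

theorem isFTLocConst_pow (ι : Type) [Finite ι] {F : EtModW.Mod Λ X} (hF : EtModW.IsFTLocConst Λ F) :
    EtModW.IsFTLocConst Λ (⨁ fun _ : ι => F) := by
  obtain ⟨κ, U, hU, h⟩ := hF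
  refine ⟨κ, U, hU, fun k => ?_⟩
  obtain ⟨M, _, _, hM, ⟨α⟩⟩ := h k
  haveI : Module.Finite Λ (⨁ fun _ : ι => ModuleCat.of Λ M : ModuleCat.{u + 1} Λ) :=
    Module.Finite.equiv (ModuleCat.biproductIsoPi fun _ : ι => ModuleCat.of Λ M).toLinearEquiv.symm
  exact ⟨(⨁ fun _ : ι => ModuleCat.of Λ M : ModuleCat.{u + 1} Λ), inferInstance, inferInstance, inferInstance,
    ⟨(LocConst.res (U k)).mapBiproduct _ ≪≫ biproduct.mapIso (fun _ => α) ≪≫
      ((LocConst.constOver (U k)).mapBiproduct fun _ : ι => ModuleCat.of Λ M).symm⟩⟩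

theorem closed_isFTLocConst [IsNoetherianRing Λ] :
    Closed (fun F : EtModW.Mod Λ X => EtModW.IsFTLocConst Λ F) where
  of_iso e h := Strata.isFT_of_iso e h
  ker f h h' := (LocConst.isFTLocConst_kernel_cokernel f h h').1
  coker f h h' := (LocConst.isFTLocConst_kernel_cokernel f h h').2
  ext {S} hS h1 h3 := by
    haveI := LocConst.isClosedUnderExtensions (Λ := Λ) (X := X)
    exact ObjectProperty.prop_X₂_of_shortExact (fun F : EtModW.Mod Λ X => EtModW.IsFTLocConst Λ F) hS h1 h3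
  pow ι _ _ h := isFTLocConst_pow ι h

theorem closed_pull [IsNoetherianRing Λ] (f : Y ⟶ X) :
    Closed (fun F : EtModW.Mod Λ X => EtModW.IsFTLocConst Λ ((EtModW.pull Λ f).obj F)) := by
  haveI := Strata.preservesFiniteLimits_pullMod (Λ := Λ) f
  have hc := closed_isFTLocConst (Λ := Λ) (X := Y)
  exact
  { of_iso := fun e h => hc.of_iso ((EtModW.pull Λ f).mapIso e) h
    ker := fun φ h h' => hc.of_iso (PreservesKernel.iso (EtModW.pull Λ f) φ).symm (hc.ker _ h h')
    coker := fun φ h h' => hc.of_iso (PreservesCokernel.iso (EtModW.pull Λ f) φ).symm (hc.coker _ h h')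
    ext := fun hS h1 h3 => hc.ext (hS.map_of_exact (EtModW.pull Λ f)) h1 h3
    pow := fun ι _ F h => hc.of_iso ((EtModW.pull Λ f).mapBiproduct fun _ : ι => F).symm (hc.pow ι _ h) }

theorem isNoetherianObject_of_finite [IsNoetherianRing Λ] (M : ModuleCat.{u + 1} Λ) [Module.Finite Λ M] :
    IsNoetherianObject M := by
  haveI : IsNoetherian Λ M := isNoetherian_of_isNoetherianRing_of_finite Λ M
  exact ⟨(ModuleCat.subobjectModule M).strictMono.wellFoundedGT⟩

theorem exists_open_isFTLocConst [IsNoetherian X] [IrreducibleSpace X] {F : EtModW.Mod Λ X}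
    (hF : EtModW.IsConstructible Λ F) :
    ∃ W : X.Opens, genericPoint X ∈ W ∧ EtModW.IsFTLocConst Λ ((EtModW.pull Λ W.ι).obj F) := by
  rw [Strata.isConstructibleMod_iff, Strata.loc_iff_strat (Strata.stable_ftPred F)] at hF
  obtain ⟨n, T, g, h1, -, -, h4, h5⟩ := hF
  obtain ⟨i, hi⟩ := Set.mem_iUnion.1 (h4.symm ▸ Set.mem_univ (genericPoint X) : genericPoint X ∈ ⋃ i, Set.range (g i))
  haveI := h1 i
  obtain ⟨O, Z, hO, hZ, hOZ⟩ := (g i).isLocallyClosed_range
  have hgen : Set.range (g i) = O := by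
    have hZu : Z = Set.univ := Set.eq_univ_of_forall fun x =>
      ((genericPoint_spec X).specializes trivial).mem_closed hZ (hOZ ▸ hi : genericPoint X ∈ O ∩ Z).2
    rw [hOZ, hZu, Set.inter_univ]
  let W : X.Opens := ⟨O, hO⟩
  refine ⟨W, (hgen ▸ hi : genericPoint X ∈ O), ?_⟩
  let p := pullback.snd (g i) W.ι
  haveI : Surjective p := ⟨fun w => by
    have h : w ∈ Set.range p := by
      rw [Scheme.Pullback.range_snd]
      exact hgen.symm ▸ w.2
    exact h⟩
  haveI : IsClosedImmersion p := IsClosedImmersion.of_isPreimmersion p (by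
    rw [Set.range_eq_univ.2 p.surjective]; exact isClosed_univ)
  refine isFTLocConst_of_pull p ((Strata.ftPred_comp F W.ι p).2 ?_)
  show Strata.ftPred F (p ≫ W.ι)
  rw [← pullback.condition]
  exact Strata.stable_ftPred F _ _ (h5 i)

theorem exists_open_lisse [IsNoetherianRing Λ] (I : Ideal Λ) [IsNoetherian X] [IrreducibleSpace X]
    (F : ARSys.PS (EtModW.Mod Λ X)) (hF : ARSys.IsAdic I F)
    (hc : ∀ n : ℕ, EtModW.IsConstructible Λ (F.obj (op n))) :
    ∃ W : X.Opens, genericPoint X ∈ W ∧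
      ∀ n : ℕ, EtModW.IsFTLocConst Λ ((EtModW.pull Λ W.ι).obj (F.obj (op n))) := by
  obtain ⟨Ω, _, _, ξ, hξ⟩ := Groth.L27.EtSite.exists_geometric_point (genericPoint X)
  choose V hηV hV using fun n => exists_open_isFTLocConst (hc n)
  have lift : ∀ W : X.Opens, genericPoint X ∈ W → ∃ ξ' : Spec (CommRingCat.of Ω) ⟶ W, ξ' ≫ W.ι = ξ := fun W h =>
    ⟨IsOpenImmersion.lift W.ι ξ (by
      rw [Scheme.Opens.range_ι]
      rintro _ ⟨t, rfl⟩
      rw [Subsingleton.elim t default, hξ]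
      exact h), IsOpenImmersion.lift_fac _ _ _⟩
  haveI : AB5OfSize.{u, u} (ModuleCat.{u + 1} Λ) := AB5OfSize_shrink.{u, u, u + 1, u + 1} _
  haveI : IsNoetherianObject ((EtModW.stalk Λ ξ).obj (F.obj (op 0))) := by
    obtain ⟨ξ', rfl⟩ := lift (V 0) (hηV 0)
    haveI : Module.Finite Λ ((EtModW.pull Λ (V 0).ι ⋙ EtModW.stalk Λ ξ').obj (F.obj (op 0))) :=
      EtModStalk.finite_stalk_of_isFTLocConst ξ' (hV 0)
    haveI : Module.Finite Λ ((EtModW.stalk Λ (ξ' ≫ (V 0).ι)).obj (F.obj (op 0))) :=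
      Module.Finite.equiv ((EtModStalk.stalkPullModIso (V 0).ι ξ').app _).toLinearEquiv
    exact isNoetherianObject_of_finite _
  obtain ⟨r, x, hx⟩ := Submodule.fg_iff_exists_fin_generating_family.1 ((isNoetherianRing_iff_ideal_fg Λ).1 ‹_› I)
  obtain ⟨N, hN⟩ := exists_bound_lisse hF x (fun i => hx ▸ Ideal.subset_span ⟨i, rfl⟩) (EtModW.stalk Λ ξ) hx
  let W : X.Opens := ⟨⋂ k : Fin (N + 1), (V k : Set X), isOpen_iInter_of_finite fun k => (V k).2⟩
  have hηW : genericPoint X ∈ W := Set.mem_iInter.2 fun k => hηV k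
  refine ⟨W, hηW, hN (fun G => EtModW.IsFTLocConst Λ ((EtModW.pull Λ W.ι).obj G)) (closed_pull W.ι) ?_ ?_⟩
  · intro L K Q a b _ _ hL hQ hiso
    haveI : Nonempty W := ⟨⟨_, hηW⟩⟩
    haveI : IrreducibleSpace W := (Scheme.Opens.ι W).isOpenEmbedding.irreducibleSpace
    obtain ⟨ξ', rfl⟩ := lift W hηW
    haveI := Strata.mono_pullMod_map (Λ := Λ) W.ι a
    haveI := Strata.mono_pullMod_map (Λ := Λ) W.ι b
    have h' : IsIso ((EtModW.stalk Λ ξ').map ((EtModW.pull Λ W.ι).map a)) :=
      ((MorphismProperty.isomorphisms _).arrow_mk_iso_iff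
        (((Functor.mapArrowFunctor _ _).mapIso (EtModStalk.stalkPullModIso W.ι ξ')).app (Arrow.mk a))).2 hiso
    have hξ' : ξ'.base default = genericPoint W :=
      W.ι.isOpenEmbedding.injective (hξ.trans (genericPoint_eq_of_isOpenImmersion W.ι).symm)
    haveI := isIso_of_generic ξ' hξ' ((EtModW.pull Λ W.ι).map a) ((EtModW.pull Λ W.ι).map b) hL hQ h'
    exact Strata.isFT_of_iso (asIso ((EtModW.pull Λ W.ι).map a)) hL
  · intro n hn
    have hle : W ≤ V n := fun y hy => Set.mem_iInter.1 hy ⟨n, Nat.lt_succ_of_le hn⟩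
    have := Strata.stable_ftPred (F.obj (op n)) (X.homOfLE hle) (V n).ι (hV n)
    rwa [Scheme.homOfLE_ι] at this

end Groth.L28.Lisse
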