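import Groth.Agent.L28.AR.Hilbert
import Groth.Agent.L28.AR.Basic
import Groth.Prelude.Def_ARSys
import Mathlib.CategoryTheory.Limits.Shapes.Biproducts
import Mathlib.Algebra.BigOperators.Fin

/-!
An adic system whose first terms are lisse is lisse: abstract form.
-/

set_option autoImplicit false

universe w v v' u u'

open CategoryTheory CategoryTheory.Limits Opposite Groth.L28.Elt Groth.L28.AR

namespace Groth.L28.Lisse

attribute [local instance] Abelian.hasFiniteBiproducts

variable {C : Type u} [Category.{v} C] [Abelian C]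

/-- closure properties of lisse objects used in the argument -/
structure Closed (P : C → Prop) : Prop where
  of_iso : ∀ {X Y : C}, (X ≅ Y) → P X → P Y
  ker : ∀ {X Y : C} (f : X ⟶ Y), P X → P Y → P (kernel f)
  coker : ∀ {X Y : C} (f : X ⟶ Y), P X → P Y → P (cokernel f)
  ext : ∀ {S : ShortComplex C}, S.ShortExact → P S.X₁ → P S.X₃ → P S.X₂
  pow : ∀ (ι : Type) [Finite ι] (X : C), P X → P (⨁ fun _ : ι => X)

section Mon

/-- monomials of degree `n` in `r` variables -/
abbrev Mon (r n : ℕ) : Type := {e : Fin r → ℕ // Finset.univ.sum e = n}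

instance (r n : ℕ) : Finite (Mon r n) :=
  Finite.of_injective (fun e : Mon r n => fun i => (⟨e.1 i, Nat.lt_succ_of_le
      ((Finset.single_le_sum (fun j _ => Nat.zero_le (e.1 j)) (Finset.mem_univ i)).trans e.2.le)⟩ : Fin (n + 1)))
    fun a b h => Subtype.ext (funext fun i => congrArg Fin.val (congrFun h i))

instance (r : ℕ) : Unique (Mon r 0) where
  default := ⟨0, by simp⟩
  uniq e := Subtype.ext (funext fun i => Nat.le_zero.1
    ((Finset.single_le_sum (fun j _ => Nat.zero_le (e.1 j)) (Finset.mem_univ i)).trans e.2.le))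

/-- multiplication of monomials by a variable -/
def Mon.up {r n : ℕ} (j : Fin r) (e : Mon r n) : Mon r (n + 1) :=
  ⟨e.1 + (Pi.single j 1 : Fin r → ℕ), by simp [Finset.sum_add_distrib, e.2]⟩

theorem Mon.up_comm {r n : ℕ} (i j : Fin r) (e : Mon r n) : (e.up i).up j = (e.up j).up i :=
  Subtype.ext (add_right_comm _ _ _)

theorem Mon.exists_up {r n : ℕ} (e : Mon r (n + 1)) : ∃ (j : Fin r) (e' : Mon r n), e'.up j = e := by
  obtain ⟨j, -, hj⟩ := Finset.exists_ne_zero_of_sum_ne_zero (s := Finset.univ) (f := e.1) (by rw [e.2]; omega)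
  have h : (e.1 - Pi.single j 1) + Pi.single j 1 = e.1 := by
    funext i
    by_cases hij : i = j
    · subst hij; simp; omega
    · simp [hij]
  refine ⟨j, ⟨e.1 - Pi.single j 1, ?_⟩, Subtype.ext h⟩
  have := congrArg (fun f : Fin r → ℕ => Finset.univ.sum f) h
  simp [Finset.sum_add_distrib, e.2] at this ⊢
  omega

variable {A : Type w} [CommRing A] {r : ℕ} (x : Fin r → A)

/-- the value of a monomial -/
def Mon.val {n : ℕ} (e : Mon r n) : A := ∏ i, x i ^ e.1 i

theorem Mon.val_up {n : ℕ} (j : Fin r) (e : Mon r n) : (e.up j).val x = e.val x * x j := by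
  have h : ∀ i, x i ^ (e.1 + (Pi.single j 1 : Fin r → ℕ)) i = x i ^ e.1 i * x i ^ (Pi.single j 1 : Fin r → ℕ) i :=
    fun i => by rw [Pi.add_apply, pow_add]
  show ∏ i, x i ^ (e.1 + (Pi.single j 1 : Fin r → ℕ)) i = _
  simp only [h, Finset.prod_mul_distrib]
  refine congrArg _ ?_
  rw [Finset.prod_eq_single j (fun b _ hb => by simp [hb]) (by simp)]
  simp

theorem span_le_val {I : Ideal A} (hI : Ideal.span (Set.range x) = I) :
    ∀ n, I ^ n ≤ Ideal.span (Set.range fun e : Mon r n => e.val x)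
  | 0 => by
    rw [pow_zero, Ideal.one_eq_top]
    refine le_of_eq (Ideal.eq_top_of_isUnit_mem _ (Ideal.subset_span
      (show (default : Mon r 0).val x ∈ Set.range (fun e : Mon r 0 => e.val x) from ⟨default, rfl⟩)) ?_).symm
    simp [Mon.val, show (default : Mon r 0).1 = 0 from rfl]
  | n + 1 => by
    rw [pow_succ]
    refine (mul_le_mul' (span_le_val hI n) hI.ge).trans ?_
    rw [Ideal.span_mul_span', Ideal.span_le]
    rintro _ ⟨_, ⟨e, rfl⟩, _, ⟨j, rfl⟩, rfl⟩
    exact Ideal.subset_span ⟨e.up j, Mon.val_up x j e⟩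

theorem val_mem {I : Ideal A} (hI : ∀ i, x i ∈ I) {n : ℕ} (e : Mon r n) : e.val x ∈ I ^ n := by
  have h := Ideal.prod_mem_prod (s := Finset.univ) (I := fun i => I ^ e.1 i) (x := fun i => x i ^ e.1 i)
    fun i _ => Ideal.pow_mem_pow (hI i) _
  rwa [Finset.prod_pow_eq_pow_sum, e.2] at h

end Mon

variable {A : Type w} [CommRing A] [Linear A C] {I : Ideal A} {F : ARSys.PS C} (hF : ARSys.IsAdic I F)
  {r : ℕ} (x : Fin r → A) (hx : ∀ i, x i ∈ I)

include hF

theorem epi_tr {a b : ℕ} (h : a ≤ b) : Epi (ARSys.tr F h) := IsQuot.epi (hF.2 a b h)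

include hx

theorem exists_phi {n : ℕ} (e : Mon r n) :
    ∃ φ : F.obj (op 0) ⟶ F.obj (op n), ARSys.tr F (Nat.zero_le n) ≫ φ = e.val x • 𝟙 _ :=
  ((hF.2 0 n (Nat.zero_le n)).2 _ _ fun a ha => by
    rw [smul_smul, hF.1 n _ (by
      rw [pow_succ, mul_comm a]
      exact Ideal.mul_mem_mul (val_mem x hx e) (by simpa using ha))]).exists

theorem exists_psi (j : Fin r) (n : ℕ) :
    ∃ ψ : F.obj (op n) ⟶ F.obj (op (n + 1)), ARSys.tr F (Nat.le_succ n) ≫ ψ = x j • 𝟙 _ :=
  ((hF.2 n (n + 1) (Nat.le_succ n)).2 _ _ fun a ha => by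
    rw [smul_smul, hF.1 (n + 1) _ (by rw [pow_succ (n := n + 1)]; exact Ideal.mul_mem_mul ha (hx j))]).exists

/-- the generators of the graded pieces -/
noncomputable def piece (n : ℕ) : (⨁ fun _ : Mon r n => F.obj (op 0)) ⟶ F.obj (op n) :=
  biproduct.desc fun e => (exists_phi hF x hx e).choose

omit hF hx in
/-- multiplication by a variable on the free graded object -/
noncomputable def up (n : ℕ) (j : Fin r) :
    (⨁ fun _ : Mon r n => F.obj (op 0)) ⟶ ⨁ fun _ : Mon r (n + 1) => F.obj (op 0) :=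
  biproduct.desc fun e => biproduct.ι (fun _ : Mon r (n + 1) => F.obj (op 0)) (e.up j)

theorem up_piece (n : ℕ) (j : Fin r) :
    up (F := F) n j ≫ piece hF x hx (n + 1) = piece hF x hx n ≫ (exists_psi hF x hx j n).choose := by
  refine biproduct.hom_ext' _ _ fun e => ?_
  simp only [up, piece, biproduct.ι_desc_assoc, biproduct.ι_desc]
  haveI := epi_tr hF (Nat.zero_le (n + 1))
  rw [← cancel_epi (ARSys.tr F (Nat.zero_le (n + 1))), (exists_phi hF x hx (e.up j)).choose_spec,
    ← tr_comp F (Nat.zero_le n) (Nat.le_succ n), Category.assoc]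
  rw [← Category.assoc (ARSys.tr F (Nat.zero_le n)), (exists_phi hF x hx e).choose_spec, Linear.smul_comp,
    Category.id_comp, Linear.comp_smul, (exists_psi hF x hx j n).choose_spec, smul_smul, Mon.val_up]

/-- stability of the relations -/
noncomputable def upKer (n : ℕ) (j : Fin r) : kernel (piece hF x hx n) ⟶ kernel (piece hF x hx (n + 1)) :=
  kernel.lift _ (kernel.ι _ ≫ up (F := F) n j)
    (by rw [Category.assoc, up_piece hF x hx n j, kernel.condition_assoc, zero_comp])

theorem piece_tr (n : ℕ) : piece hF x hx (n + 1) ≫ ARSys.tr F (Nat.le_succ n) = 0 := by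
  refine biproduct.hom_ext' _ _ fun e => ?_
  simp only [piece, biproduct.ι_desc_assoc, comp_zero]
  haveI := epi_tr hF (Nat.zero_le (n + 1))
  rw [← cancel_epi (ARSys.tr F (Nat.zero_le (n + 1))), ← Category.assoc, (exists_phi hF x hx e).choose_spec,
    Linear.smul_comp, Category.id_comp, comp_zero]
  exact homKilled_of_killed (hF.1 n) _ _ (val_mem x hx e)

theorem exact_piece (hI : Ideal.span (Set.range x) = I) (n : ℕ) :
    (ShortComplex.mk (piece hF x hx (n + 1)) (ARSys.tr F (Nat.le_succ n)) (piece_tr hF x hx n)).Exact := by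
  refine (Elt.exact_iff _).2 fun y hy => (cokernel_π_eq_zero_iff _ _).1 ?_
  refine IsQuot.vanish (hF.2 n (n + 1) (Nat.le_succ n)) (fun a ha => ?_) hy
  have h : ∀ a ∈ Ideal.span (Set.range fun e : Mon r (n + 1) => e.val x),
      a • cokernel.π (piece hF x hx (n + 1)) = 0 := by
    intro a ha
    induction ha using Submodule.span_induction with
    | mem b hb =>
      obtain ⟨e, rfl⟩ := hb
      calc e.val x • cokernel.π (piece hF x hx (n + 1))
          = (e.val x • 𝟙 _) ≫ cokernel.π (piece hF x hx (n + 1)) := by rw [Linear.smul_comp, Category.id_comp]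
        _ = ARSys.tr F (Nat.zero_le (n + 1)) ≫ (biproduct.ι (fun _ : Mon r (n + 1) => F.obj (op 0)) e ≫ piece hF x hx (n + 1)) ≫
              cokernel.π (piece hF x hx (n + 1)) := by
          rw [← (exists_phi hF x hx e).choose_spec, Category.assoc]; simp [piece]
        _ = 0 := by rw [Category.assoc, cokernel.condition, comp_zero, comp_zero]
    | zero => exact zero_smul _ _
    | add b c _ _ hb hc => rw [add_smul, hb, hc, add_zero]
    | smul c b _ hb => rw [smul_eq_mul, mul_smul, hb, smul_zero]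
  exact h a (span_le_val x hI (n + 1) ha)

/-- a step: the next term is lisse when the relations in that degree are -/
theorem lisse_step {P : C → Prop} (hP : Closed P) (hI : Ideal.span (Set.range x) = I) (n : ℕ)
    (h0 : P (F.obj (op 0))) (hn : P (F.obj (op n))) (hK : P (kernel (piece hF x hx (n + 1)))) :
    P (F.obj (op (n + 1))) := by
  have h1 : P (Abelian.coimage (piece hF x hx (n + 1))) := hP.coker _ hK (hP.pow _ _ h0)
  let g := Abelian.factorThruCoimage (piece hF x hx (n + 1))
  let p := Abelian.coimage.π (piece hF x hx (n + 1))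
  have hz : g ≫ ARSys.tr F (Nat.le_succ n) = 0 := by
    rw [← cancel_epi p, comp_zero, ← Category.assoc, Abelian.coimage.fac]
    exact piece_tr hF x hx n
  haveI := epi_tr hF (Nat.le_succ n)
  refine hP.ext (S := ShortComplex.mk g (ARSys.tr F (Nat.le_succ n)) hz)
    (ShortComplex.ShortExact.mk' ((Elt.exact_iff _).2 fun y hy => ?_) inferInstance inferInstance) h1 hn
  obtain ⟨z, hz'⟩ := (Elt.exact_iff _).1 (exact_piece hF x hx hI n) y hy
  exact ⟨ev p z, by rw [← ev_comp]; exact (ev_congr (Abelian.coimage.fac _) z).trans hz'⟩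

section Fib

variable {D : Type u'} [Category.{v'} D] [Abelian D] (Fib : C ⥤ D) [Fib.Additive] [PreservesFiniteLimits Fib]
  [PreservesFiniteColimits Fib]

omit hF hx in
theorem hgen (n : ℕ) : (⊤ : Subobject (Fib.obj (⨁ fun _ : Mon r (n + 1) => F.obj (op 0)))) ≤
    ⊥ ⊔ Finset.univ.sup fun j => img (Fib.map (up (F := F) n j)) ⊤ := by
  classical
  cases nonempty_fintype (Mon r (n + 1))
  rw [bot_sup_eq]
  refine le_iff'.2 fun y _ => ?_
  have h : y = ∑ e : Mon r (n + 1), ev (Fib.map (biproduct.π (fun _ : Mon r (n + 1) => F.obj (op 0)) e ≫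
      biproduct.ι (fun _ : Mon r (n + 1) => F.obj (op 0)) e)) y := by
    have := congrArg (fun k => ev (Fib.map k) y) (biproduct.total (f := fun _ : Mon r (n + 1) => F.obj (op 0)))
    have e1 : ev (Fib.map (𝟙 (⨁ fun _ : Mon r (n + 1) => F.obj (op 0)))) y = y := by
      rw [CategoryTheory.Functor.map_id]; exact ev_id y
    refine e1.symm.trans (this.symm.trans ?_)
    simp only [ev, Functor.map_sum, ModuleCat.hom_sum, LinearMap.sum_apply]
  rw [h]
  refine sum_mem fun e _ => ?_
  obtain ⟨j, e', rfl⟩ := Mon.exists_up e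
  refine le_iff.1 (Finset.le_sup (f := fun j => img (Fib.map (up (F := F) n j)) ⊤) (Finset.mem_univ j)) ?_
  refine (mem_img _ _ _).2 ⟨ev (Fib.map (biproduct.π (fun _ : Mon r (n + 1) => F.obj (op 0)) (e'.up j) ≫
    biproduct.ι (fun _ : Mon r n => F.obj (op 0)) e')) y, mem_top _, ?_⟩
  rw [← ev_comp, ← Functor.map_comp, Category.assoc]
  simp [up]

omit hF hx in
theorem up_comm (i l : Fin r) (q : ℕ) :
    Fib.map (up (F := F) q i) ≫ Fib.map (up (F := F) (q + 1) l) =
      Fib.map (up (F := F) q l) ≫ Fib.map (up (F := F) (q + 1) i) := by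
  rw [← Functor.map_comp, ← Functor.map_comp]
  refine congrArg Fib.map (biproduct.hom_ext' _ _ fun e => ?_)
  simp only [up, biproduct.ι_desc_assoc, biproduct.ι_desc]
  rw [Mon.up_comm]

/-- the family generated in degrees at most `N` -/
noncomputable def gen (N : ℕ) : ∀ q, Subobject (Fib.obj (⨁ fun _ : Mon r q => F.obj (op 0)))
  | 0 => Subobject.mk (Fib.map (kernel.ι (piece hF x hx 0)))
  | q + 1 => if q + 1 ≤ N then Subobject.mk (Fib.map (kernel.ι (piece hF x hx (q + 1))))
      else Finset.univ.sup fun j => img (Fib.map (up (F := F) q j)) (gen N q)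

/-- the relations in degree `q` -/
noncomputable abbrev rel (q : ℕ) : Subobject (Fib.obj (⨁ fun _ : Mon r q => F.obj (op 0))) :=
  Subobject.mk (Fib.map (kernel.ι (piece hF x hx q)))

theorem rel_stable (q : ℕ) (j : Fin r) : img (Fib.map (up (F := F) q j)) (rel hF x hx Fib q) ≤ rel hF x hx Fib (q + 1) := by
  refine le_iff'.2 fun y hy => ?_
  obtain ⟨z, hz, rfl⟩ := (mem_img _ _ _).1 hy
  obtain ⟨k, rfl⟩ := (elts_mk _ _).1 hz
  refine (elts_mk _ _).2 ⟨ev (Fib.map (upKer hF x hx q j)) k, ?_⟩
  rw [← ev_comp, ← ev_comp, ← Functor.map_comp, ← Functor.map_comp, upKer, kernel.lift_ι]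

theorem gen_le (N q : ℕ) : gen hF x hx Fib N q ≤ rel hF x hx Fib q := by
  induction q with
  | zero => exact le_of_eq (by rw [gen])
  | succ q ih =>
    rw [gen]
    split_ifs
    · exact le_rfl
    · refine Finset.sup_le fun j _ => le_iff'.2 fun y hy => ?_
      obtain ⟨z, hz, rfl⟩ := (mem_img _ _ _).1 hy
      exact le_iff.1 (rel_stable hF x hx Fib q j) ((mem_img _ _ _).2 ⟨z, le_iff.1 ih hz, rfl⟩)

theorem gen_of_le (N : ℕ) : ∀ q, q ≤ N → gen hF x hx Fib N q = rel hF x hx Fib q
  | 0, _ => by rw [gen]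
  | q + 1, h => by rw [gen, if_pos h]

/-- relations are generated in bounded degrees -/
theorem exists_bound [IsNoetherianObject (Fib.obj (F.obj (op 0)))] :
    ∃ N, ∀ q, N ≤ q → rel hF x hx Fib (q + 1) ≤
      Finset.univ.sup fun j => img (Fib.map (up (F := F) q j)) (rel hF x hx Fib q) := by
  haveI : IsNoetherianObject (Fib.obj (⨁ fun _ : Mon r 0 => F.obj (op 0))) :=
    noetherian_of_epi (Fib.map (biproductUniqueIso (fun _ : Mon r 0 => F.obj (op 0))).inv)
  have hs : ∀ N j, Hilbert.Stable (fun q => Fib.map (up (F := F) q j)) (gen hF x hx Fib N) := by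
    intro N j q y hy
    rw [gen]
    split_ifs
    · exact le_iff.1 (rel_stable hF x hx Fib q j) ((mem_img _ _ _).2 ⟨y, le_iff.1 (gen_le hF x hx Fib N q) hy, rfl⟩)
    · exact le_iff.1 (Finset.le_sup (f := fun j => img (Fib.map (up (F := F) q j)) (gen hF x hx Fib N q))
        (Finset.mem_univ j)) ((mem_img _ _ _).2 ⟨y, hy, rfl⟩)
  have hmono : Monotone (gen hF x hx Fib) := by
    intro a b hab q
    induction q with
    | zero => exact le_of_eq (by rw [gen, gen])
    | succ q ih =>
      by_cases hb : q + 1 ≤ b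
      · exact (gen_le hF x hx Fib a _).trans (gen_of_le hF x hx Fib b _ hb).ge
      · rw [gen, gen, if_neg hb, if_neg (by omega)]
        refine Finset.sup_mono_fun fun j _ => le_iff'.2 fun y hy => ?_
        obtain ⟨z, hz, rfl⟩ := (mem_img _ _ _).1 hy
        exact (mem_img _ _ _).2 ⟨z, le_iff.1 ih hz, rfl⟩
  obtain ⟨N, hN⟩ := Hilbert.stationary (Xs := fun q => Fib.obj (⨁ fun _ : Mon r q => F.obj (op 0))) r
    (fun j q => Fib.map (up (F := F) q j)) (fun i l q => up_comm Fib i l q) (fun _ => ⊤) (fun _ => ⊥)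
    (fun q => bot_le) (fun i q y _ => mem_top _) (fun i q y hy => by rw [(mem_bot y).1 hy, map_zero]; exact zero_mem _)
    (fun q => hgen Fib q) inferInstance (gen hF x hx Fib) hmono (fun N q => bot_le) (fun N q => le_top) hs
  refine ⟨N, fun q hq => ?_⟩
  have h1 := congrFun (hN (q + 1) (by omega)) (q + 1)
  rw [gen_of_le hF x hx Fib (q + 1) _ le_rfl] at h1
  refine h1.le.trans ?_
  rw [gen, if_neg (by omega)]
  refine Finset.sup_mono_fun fun j _ => le_iff'.2 fun y hy => ?_
  obtain ⟨z, hz, rfl⟩ := (mem_img _ _ _).1 hy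
  exact (mem_img _ _ _).2 ⟨z, le_iff.1 (gen_le hF x hx Fib N q) hz, rfl⟩

/-- an adic system is lisse as soon as enough of its first terms are -/
theorem exists_bound_lisse (hI : Ideal.span (Set.range x) = I)
    [IsNoetherianObject (Fib.obj (F.obj (op 0)))] :
    ∃ N, ∀ P : C → Prop, Closed P →
      (∀ {L K Q : C} (a : L ⟶ K) (b : K ⟶ Q), Mono a → Mono b → P L → P Q → IsIso (Fib.map a) → P K) →
      (∀ n, n ≤ N → P (F.obj (op n))) → ∀ n, P (F.obj (op n)) := by
  obtain ⟨N, hN⟩ := exists_bound hF x hx Fib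
  refine ⟨N, fun P hP hrig hle n => ?_⟩
  induction n with
  | zero => exact hle 0 (Nat.zero_le N)
  | succ n ih =>
    by_cases hn : n + 1 ≤ N
    · exact hle _ hn
    have h0 := hle 0 (Nat.zero_le N)
    have hKn : P (kernel (piece hF x hx n)) := hP.ker _ (hP.pow _ _ h0) ih
    let l : (⨁ fun _ : Fin r => kernel (piece hF x hx n)) ⟶ kernel (piece hF x hx (n + 1)) :=
      biproduct.desc fun j => upKer hF x hx n j
    have hLim : P (Abelian.coimage l) :=
      hP.coker _ (hP.of_iso (kernelCompMono l (kernel.ι (piece hF x hx (n + 1))))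
        (hP.ker _ (hP.pow _ _ hKn) (hP.pow _ _ h0))) (hP.pow _ _ hKn)
    have hsurj : Function.Surjective (ev (Fib.map l)) := by
      intro k
      have hk : ev (Fib.map (kernel.ι (piece hF x hx (n + 1)))) k ∈
          elts (imageSubobject (Fib.map (l ≫ kernel.ι (piece hF x hx (n + 1))))) := by
        refine le_iff.1 ((hN n (by omega)).trans (Finset.sup_le fun j _ => le_iff'.2 fun y hy => ?_))
          ((elts_mk _ _).2 ⟨k, rfl⟩)
        obtain ⟨z, hz, rfl⟩ := (mem_img _ _ _).1 hy
        obtain ⟨k', rfl⟩ := (elts_mk _ _).1 hz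
        refine (mem_imageSubobject _ _).2 ⟨ev (Fib.map (biproduct.ι (fun _ : Fin r => kernel (piece hF x hx n)) j)) k', ?_⟩
        rw [← ev_comp, ← ev_comp, ← Functor.map_comp, ← Functor.map_comp]
        simp [l, upKer]
      obtain ⟨z, hz⟩ := (mem_imageSubobject _ _).1 hk
      rw [Functor.map_comp, ev_comp] at hz
      exact ⟨z, inj (Fib.map (kernel.ι (piece hF x hx (n + 1)))) hz⟩
    haveI : Epi (Fib.map (Abelian.coimage.π l) ≫ Fib.map (Abelian.factorThruCoimage l)) := by
      rw [← Functor.map_comp, Abelian.coimage.fac]; exact epi_iff.2 hsurj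
    haveI : Epi (Fib.map (Abelian.factorThruCoimage l)) := epi_of_epi (Fib.map (Abelian.coimage.π l)) _
    haveI : IsIso (Fib.map (Abelian.factorThruCoimage l)) := isIso_of_mono_of_epi _
    exact lisse_step hF x hx hP hI n h0 ih (hrig (Abelian.factorThruCoimage l) (kernel.ι (piece hF x hx (n + 1)))
      inferInstance inferInstance hLim (hP.pow _ _ h0) inferInstance)

end Fib

end Groth.L28.Lisse
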