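import Groth.Agent.L28.Lisse.Main
import Mathlib.Topology.NoetherianSpace
import Mathlib.Topology.Sober

/-!
Adic systems of constructible sheaves: dense lisse loci and stratifications.
-/

set_option autoImplicit false

universe u

open CategoryTheory CategoryTheory.Limits AlgebraicGeometry Opposite TopologicalSpace Topology

set_option backward.isDefEq.respectTransparency.types false

namespace Groth.L28.Lisse

variable {Λ : Type (u + 1)} [CommRing Λ] [IsNoetherianRing Λ] (I : Ideal Λ) {X : Scheme.{u}} [IsNoetherian X]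

theorem isNoetherian_of_isImmersion {T : Scheme.{u}} (g : T ⟶ X) [IsImmersion g] : IsNoetherian T := by
  haveI : IsLocallyNoetherian T := LocallyOfFiniteType.isLocallyNoetherian g
  haveI : CompactSpace T := ⟨g.isEmbedding.isCompact_iff.2 (NoetherianSpace.isCompact _)⟩
  constructor

theorem isConstructible_range {T : Scheme.{u}} (g : T ⟶ X) [IsImmersion g] : IsConstructible (Set.range g) := by
  obtain ⟨O, Z, hO, hZ, e⟩ := g.isLocallyClosed_range
  have hret : ∀ s : Set X, IsRetrocompact s := fun s _ _ _ => NoetherianSpace.isCompact _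
  rw [e, ← compl_compl Z]
  exact ((hret O).isConstructible hO).inter (((hret _).isConstructible hZ.isOpen_compl).compl)

theorem exists_dense_open (F : ARSys.PS (EtModW.Mod Λ X)) (hF : ARSys.IsAdic I F)
    (hc : ∀ n : ℕ, EtModW.IsConstructible Λ (F.obj (op n))) :
    ∃ U : X.Opens, Dense (U : Set X) ∧
      ∀ n : ℕ, EtModW.IsFTLocConst Λ ((EtModW.pull Λ U.ι).obj (F.obj (op n))) := by
  haveI : Finite (irreducibleComponents X) := NoetherianSpace.finite_irreducibleComponents.to_subtype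
  have key : ∀ Z : irreducibleComponents X, ∃ W : X.Opens, ((W : Set X) ∩ Z.1).Nonempty ∧
      ∀ n : ℕ, EtModW.IsFTLocConst Λ ((EtModW.pull Λ W.ι).obj (F.obj (op n))) := by
    intro Z
    obtain ⟨O, hO, hne', hOZ⟩ := NoetherianSpace.exists_isOpen_nonempty_subset_irreducibleComponent Z.1 Z.2
    let W0 : X.Opens := ⟨O, hO⟩
    haveI : IrreducibleSpace W0 :=
      Subtype.irreducibleSpace ⟨hne', Z.2.1.2.open_subset hO hOZ⟩
    haveI : IsNoetherian W0 := isNoetherian_of_isImmersion W0.ι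
    haveI := Strata.preservesFiniteLimits_pullMod (Λ := Λ) W0.ι
    obtain ⟨W, hW, h⟩ := exists_open_lisse I (F ⋙ EtModW.pull Λ W0.ι)
      (AR.isAdic_comp (EtModW.pull Λ W0.ι) (Strata.pullPushAdjMod W0.ι) hF)
      (fun n => Strata.isConstructibleMod_pull W0.ι (hc n))
    refine ⟨W0.ι ''ᵁ W, ⟨W0.ι (genericPoint W0), ⟨_, hW, rfl⟩, hOZ (genericPoint W0).2⟩, fun n => ?_⟩
    have e : (W0.ι.isoImage W).inv ≫ W.ι ≫ W0.ι = (W0.ι ''ᵁ W).ι := by
      rw [Iso.inv_comp_eq, Scheme.Hom.isoImage_hom_ι]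
    have := Strata.stable_ftPred (F.obj (op n)) (W0.ι.isoImage W).inv (W.ι ≫ W0.ι)
      ((Strata.ftPred_comp (F.obj (op n)) W0.ι W.ι).1 (h n))
    rwa [e] at this
  choose W hW h using key
  refine ⟨⨆ Z, W Z, ?_, fun n => isFTLocConst_of_openCover (fun Z : ULift.{u} (Fin (Nat.card (irreducibleComponents X))) =>
    (W ((Finite.equivFin _).symm Z.down) : Scheme.{u}))
    (fun Z => X.homOfLE (le_iSup W ((Finite.equivFin _).symm Z.down))) (fun x => ?_) fun Z => ?_⟩
  · refine dense_iff_inter_open.2 fun O hO ⟨x, hx⟩ => ?_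
    let Z : irreducibleComponents X := ⟨_, irreducibleComponent_mem_irreducibleComponents x⟩
    obtain ⟨y, hy, hyO, hyW⟩ := Z.2.1.2 O (W Z : Set X) hO (W Z).2 ⟨x, mem_irreducibleComponent, hx⟩
      (by obtain ⟨y, h1, h2⟩ := hW Z; exact ⟨y, h2, h1⟩)
    exact ⟨y, hyO, Opens.mem_iSup.2 ⟨Z, hyW⟩⟩
  · obtain ⟨Z, hZ⟩ := Opens.mem_iSup.1 x.2
    obtain ⟨k, rfl⟩ := (Finite.equivFin _).symm.surjective Z
    refine ⟨⟨k⟩, ⟨x.1, hZ⟩, ?_⟩
    exact Subtype.ext (Scheme.homOfLE_apply _ _)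
  · refine (Strata.ftPred_comp (F.obj (op n)) (⨆ Z, W Z).ι _).2 ?_
    show Strata.ftPred (F.obj (op n)) (X.homOfLE _ ≫ (⨆ Z, W Z).ι)
    rw [Scheme.homOfLE_ι]
    exact h _ n

theorem strat_lisse (F : ARSys.PS (EtModW.Mod Λ X)) (hF : ARSys.IsAdic I F)
    (hc : ∀ n : ℕ, EtModW.IsConstructible Λ (F.obj (op n))) :
    Strata.Strat X (fun _ g => ∀ n : ℕ, Strata.ftPred (F.obj (op n)) g) := by
  have hP : Strata.Stable (X := X) (fun _ g => ∀ n : ℕ, Strata.ftPred (F.obj (op n)) g) :=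
    fun _ _ k g hg n => Strata.stable_ftPred (F.obj (op n)) k g (hg n)
  let Good : Set X → Prop := fun s => ∃ (m : ℕ) (T : Fin m → Scheme.{u}) (g : ∀ i, T i ⟶ X),
    (∀ i, IsImmersion (g i) ∧ IsConstructible (Set.range (g i)) ∧ ∀ n : ℕ, Strata.ftPred (F.obj (op n)) (g i)) ∧
      s ⊆ ⋃ i, Set.range (g i)
  suffices h : ∀ Z : Closeds X, Good Z by
    obtain ⟨m, T, g, hg, hcov⟩ := h ⊤
    exact Strata.strat_of_pieces hP g (fun i => (hg i).1) (fun i => (hg i).2.1)
      (Set.eq_univ_of_univ_subset hcov) (fun i => (hg i).2.2)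
  intro Z
  induction Z using WellFoundedLT.induction with
  | ind Z ih =>
    rcases (Z : Set X).eq_empty_or_nonempty with hZ | ⟨z, hz⟩
    · exact ⟨0, Fin.elim0, fun i => i.elim0, fun i => i.elim0, by rw [hZ]; exact Set.empty_subset _⟩
    obtain ⟨T0, i0, hi0, hr0⟩ := Strata.exists_immersion ⊤ Z
    rw [TopologicalSpace.Opens.coe_top, Set.univ_inter] at hr0
    haveI : IsNoetherian T0 := isNoetherian_of_isImmersion i0
    haveI : Nonempty T0 := ⟨(show z ∈ Set.range i0 from hr0.symm ▸ hz).choose⟩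
    obtain ⟨U, hU, hUl⟩ := exists_dense_open I (F ⋙ EtModW.pull Λ i0)
      (AR.isAdic_comp (EtModW.pull Λ i0) (Strata.pullPushAdjMod i0) hF)
      (fun n => Strata.isConstructibleMod_pull i0 (hc n))
    have hcl : IsClosed (i0 '' (U : Set T0)ᶜ) := by
      have hce : IsClosedEmbedding i0 := ⟨i0.isEmbedding, by rw [hr0]; exact Z.isClosed⟩
      exact hce.isClosedMap _ U.2.isClosed_compl
    let Z' : Closeds X := ⟨i0 '' (U : Set T0)ᶜ, hcl⟩
    have hlt : Z' < Z := by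
      refine lt_of_le_of_ne (fun y ⟨t, _, ht⟩ => (hr0.le (⟨t, ht⟩ : y ∈ Set.range i0) : y ∈ (Z : Set X))) fun e => ?_
      obtain ⟨t, ht⟩ := hU.nonempty
      obtain ⟨t', ht', htt⟩ : i0 t ∈ i0 '' (U : Set T0)ᶜ := by
        show i0 t ∈ (Z' : Set X)
        rw [e, ← hr0]
        exact ⟨t, rfl⟩
      exact ht' (i0.isEmbedding.injective htt ▸ ht)
    obtain ⟨m, T, g, hg, hcov⟩ := ih Z' hlt
    refine ⟨m + 1, Fin.cons (U : Scheme.{u}) T, @Fin.cons m (fun i => (Fin.cons (U : Scheme.{u}) T : Fin (m + 1) → Scheme.{u}) i ⟶ X) (U.ι ≫ i0) g,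
      fun k => ?_, ?_⟩
    · cases k using Fin.cases with
      | succ k => exact hg k
      | zero =>
        exact ⟨inferInstanceAs (IsImmersion (U.ι ≫ i0)), isConstructible_range (U.ι ≫ i0),
          fun n => (Strata.ftPred_comp (F.obj (op n)) i0 U.ι).1 (hUl n)⟩
    · intro y hy
      obtain ⟨t, rfl⟩ : y ∈ Set.range i0 := hr0.symm ▸ hy
      by_cases ht : t ∈ U
      · exact Set.mem_iUnion.2 ⟨0, ⟨t, ht⟩, rfl⟩
      · obtain ⟨k, s, hs⟩ := Set.mem_iUnion.1 (hcov ⟨t, ht, rfl⟩)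
        exact Set.mem_iUnion.2 ⟨k.succ, s, hs⟩

end Groth.L28.Lisse
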